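import Cfsg.Agent.H89.Prod.Basic
import Cfsg.Agent.H89.Gen.ModExtend

/-!
Every map on a subgroup of the product extends to the product of its projections.
-/

set_option autoImplicit false
set_option linter.style.haveILetI false
set_option linter.unusedSectionVars false

namespace Cfsg.Agent.H89.Prod

open Cfsg Cfsg.FusionSystem Cfsg.Agent.FusionSys Cfsg.Agent.H91.CentFocal
open Cfsg.Agent.H89.Gen (finSub)
open Cfsg.FusionSystem (centralizerIn normalizerIn)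

variable {Ω : Type*} [Group Ω] {S T₁ T₂ : Subgroup Ω} {F : FusionSystem S} {p : ℕ}
  {E₁ : FusionSystem T₁} {E₂ : FusionSystem T₂} [Finite S] [Fact p.Prime]

/-- The automorphisms of `K` that are trivial modulo `T` and are inner on `K ∩ T`. -/
def innMod (T K : Subgroup Ω) [Finite (MulAut K)] : Subgroup (MulAut K) :=
  finSub
    { carrier := {α | (∀ y ∈ K, y⁻¹ * autMap α y ∈ T) ∧
        ∃ x ∈ K, ∀ w ∈ K, w ∈ T → autMap α w = x * w * x⁻¹}
      one_mem' := ⟨fun y hy => by rw [FusionSys.autMap_one hy, inv_mul_cancel]; exact T.one_mem,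
        1, K.one_mem, fun w hw _ => by rw [FusionSys.autMap_one hw]; group⟩
      mul_mem' := by
        rintro α β ⟨hα, x, hx, hαx⟩ ⟨hβ, z, hz, hβz⟩
        refine ⟨fun y hy => ?_, x * z, K.mul_mem hx hz, fun w hw hwT => ?_⟩
        · have := T.mul_mem (hβ y hy) (hα _ (autMap_mem β hy))
          rw [autMap_mul _ _ hy]
          rwa [mul_assoc, mul_inv_cancel_left] at this
        · have hwT' : autMap β w ∈ T := by
            have := T.mul_mem hwT (hβ w hw)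
            rwa [mul_inv_cancel_left] at this
          rw [autMap_mul _ _ hw, hαx _ (autMap_mem β hw) hwT', hβz w hw hwT]
          group }

theorem mem_innMod {T K : Subgroup Ω} [Finite (MulAut K)] {α : MulAut K} :
    α ∈ innMod T K ↔ (∀ y ∈ K, y⁻¹ * autMap α y ∈ T) ∧
      ∃ x ∈ K, ∀ w ∈ K, w ∈ T → autMap α w = x * w * x⁻¹ := Iff.rfl

theorem innMod_conj {T K : Subgroup Ω} [Finite (MulAut K)] (hKS : K ≤ S) (hT : F.StronglyClosed T)
    {γ α : MulAut K} (hγ : γ ∈ F.autGroup K) (hα : α ∈ innMod T K) :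
    γ * α * γ⁻¹ ∈ innMod T K := by
  obtain ⟨h1, x, hx, h2⟩ := mem_innMod.1 hα
  have hγm := (isIso_autMap hKS hγ).isMap
  have hγm' := (isIso_autMap hKS (inv_mem hγ)).isMap
  have e : ∀ y ∈ K, autMap (γ * α * γ⁻¹) (autMap γ y) = autMap γ (autMap α y) := fun y hy => by
    rw [autMap_mul _ _ (autMap_mem _ hy), ← autMap_mul γ⁻¹ γ hy, inv_mul_cancel,
      FusionSys.autMap_one hy, autMap_mul _ _ hy]
  refine mem_innMod.2 ⟨fun z hz => ?_, autMap γ x, autMap_mem _ hx, fun z hz hzT => ?_⟩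
  · obtain ⟨y, hy, rfl⟩ := (isIso_autMap hKS hγ).exists_preimage hz
    rw [e y hy, ← hγm.map_inv hy, ← hγm.map_mul (K.inv_mem hy) (autMap_mem α hy)]
    exact mem_of_stronglyClosed hT hγm (K.mul_mem (K.inv_mem hy) (autMap_mem α hy)) (h1 y hy)
  · obtain ⟨y, hy, rfl⟩ := (isIso_autMap hKS hγ).exists_preimage hz
    have hyT : y ∈ T := by
      have := mem_of_stronglyClosed hT hγm' (autMap_mem γ hy) hzT
      rwa [S5114.inv_autMap_apply γ hy] at this
    rw [e y hy, h2 y hy hyT, hγm.map_conj hx hy]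

theorem innMod_pow {T K : Subgroup Ω} [Finite (MulAut K)] [Finite K] {a : ℕ}
    (ha : Nat.card K = p ^ a) {α : MulAut K} (hα : α ∈ innMod T K) : α ^ p ^ (a + a) = 1 := by
  obtain ⟨-, x, hx, h2⟩ := mem_innMod.1 hα
  have hxpow : x ^ p ^ a = 1 := by
    rw [← ha]
    exact congrArg Subtype.val (pow_card_eq_one' (x := (⟨x, hx⟩ : K)))
  have hstep : ∀ (j : ℕ), ∀ w ∈ K, w ∈ T → autMap (α ^ j) w = x ^ j * w * (x ^ j)⁻¹ := by
    intro j w hw hwT
    induction j with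
    | zero => rw [pow_zero, FusionSys.autMap_one hw, pow_zero]; group
    | succ j ih =>
      have hjK : autMap (α ^ j) w ∈ K := autMap_mem _ hw
      have hjT : autMap (α ^ j) w ∈ T := by
        have := T.mul_mem hwT ((mem_innMod.1 (Subgroup.pow_mem _ hα j)).1 w hw)
        rwa [mul_inv_cancel_left] at this
      rw [pow_succ', autMap_mul _ _ hw, h2 _ hjK hjT, ih, pow_succ']
      group
  set ε := α ^ p ^ a with hε
  have hεfix : ∀ w ∈ K, w ∈ T → autMap ε w = w := fun w hw hwT => by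
    rw [hε, hstep _ w hw hwT, hxpow]; group
  have hεmod := (mem_innMod.1 (Subgroup.pow_mem (innMod T K) hα (p ^ a))).1
  rw [← hε] at hεmod
  have hεpow : ∀ (j : ℕ), ∀ y ∈ K, autMap (ε ^ j) y = y * (y⁻¹ * autMap ε y) ^ j := by
    intro j y hy
    set z := y⁻¹ * autMap ε y with hz
    have hzK : z ∈ K := K.mul_mem (K.inv_mem hy) (autMap_mem ε hy)
    induction j with
    | zero => rw [pow_zero, FusionSys.autMap_one hy, pow_zero, mul_one]
    | succ j ih =>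
      have hzj : z ^ j ∈ K := K.pow_mem hzK j
      rw [pow_succ', autMap_mul _ _ hy, ih, autMap_apply ε (K.mul_mem hy hzj),
        show (⟨y * z ^ j, K.mul_mem hy hzj⟩ : K) = ⟨y, hy⟩ * ⟨z ^ j, hzj⟩ from rfl, map_mul,
        Subgroup.coe_mul, ← autMap_apply ε hy, ← autMap_apply ε hzj,
        hεfix _ hzj (T.pow_mem (hεmod y hy) j), show autMap ε y = y * z by
          rw [hz, mul_inv_cancel_left], pow_succ', mul_assoc]
  rw [pow_add, pow_mul, ← hε]
  refine aut_ext fun y hy => ?_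
  rw [hεpow _ y hy, ← ha, FusionSys.autMap_one hy, show (y⁻¹ * autMap ε y) ^ Nat.card K = 1 from
    congrArg Subtype.val (pow_card_eq_one'
      (x := (⟨_, K.mul_mem (K.inv_mem hy) (autMap_mem ε hy)⟩ : K))), mul_one]

namespace Ctx

variable (h : Ctx p F E₁ E₂)
include h

theorem closed : F.StronglyClosed (T₁ ⊔ T₂) := by
  refine stronglyClosed_iff.2 ⟨h.le_U, fun R f hR hf x hx => ?_⟩
  obtain ⟨g, hg, hge⟩ := exists_extend_mod h.hS h.hF h.closed₁ h.closed₁ le_rfl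
    (fun a ha b hb => T₁.mul_mem (T₁.mul_mem (T₁.mul_mem ha hb) (T₁.inv_mem ha)) (T₁.inv_mem hb)) hf
  obtain ⟨a, ha, b, hb, rfl⟩ := h.exists_mul (hR hx)
  have hbX : b ∈ R ⊔ T₁ := by
    have := (R ⊔ T₁).mul_mem (Subgroup.mem_sup_right (T₁.inv_mem ha)) (Subgroup.mem_sup_left hx)
    rwa [inv_mul_cancel_left] at this
  have hgx : g (a * b) ∈ T₁ ⊔ T₂ := by
    rw [hg.map_mul (Subgroup.mem_sup_right ha) hbX]
    exact Subgroup.mul_mem _ (Subgroup.mem_sup_left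
        (mem_of_stronglyClosed h.closed₁ hg (Subgroup.mem_sup_right ha) ha))
      (Subgroup.mem_sup_right (mem_of_stronglyClosed h.closed₂ hg hbX hb))
  have h2 := Subgroup.mul_mem _ hgx (Subgroup.mem_sup_left (T := T₂) (T₁.inv_mem (hge _ hx)))
  rwa [_root_.mul_inv_rev, inv_inv, mul_inv_cancel_left] at h2

/-- A map extended to the projections carries them onto the projections of the image. -/
theorem img_pr {P : Subgroup Ω} {s A : Ω → Ω} (hP : P ≤ T₁ ⊔ T₂)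
    (hA : IsMap F (pr T₁ T₂ P ⊔ pr T₂ T₁ P) A) (he : ∀ x ∈ P, A x = s x) (hs : IsMap F P s) :
    imgSub A (pr T₁ T₂ P) = pr T₁ T₂ (imgSub s P) := by
  have hA₁ := hA.mono (le_sup_left : pr T₁ T₂ P ≤ _)
  apply le_antisymm
  · intro y hy
    obtain ⟨a, ha, rfl⟩ := hA₁.mem_imgSub.1 hy
    obtain ⟨b, hb, hab⟩ := h.exists_of_pr hP ha
    have hbp := h.mem_pr_right ha.2 hb hab
    refine h.mem_pr_left (mem_of_stronglyClosed h.closed₁ hA₁ ha ha.2)
      (mem_of_stronglyClosed h.closed₂ hA (Subgroup.mem_sup_right hbp) hb) ?_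
    rw [← hA.map_mul (Subgroup.mem_sup_left ha) (Subgroup.mem_sup_right hbp), he _ hab]
    exact hs.mem_imgSub.2 ⟨_, hab, rfl⟩
  · intro y hy
    obtain ⟨b', hb', hyb⟩ := h.exists_of_pr
      (fun z hz => by
        obtain ⟨x, hx, rfl⟩ := hs.mem_imgSub.1 hz
        exact mem_of_stronglyClosed h.closed hs hx (hP hx)) hy
    obtain ⟨x, hx, hxe⟩ := hs.mem_imgSub.1 hyb
    obtain ⟨a, ha, b, hb, rfl⟩ := h.exists_mul (hP hx)
    have hap := h.mem_pr_left ha hb hx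
    have hbp := h.mem_pr_right ha hb hx
    rw [← he _ hx, hA.map_mul (Subgroup.mem_sup_left hap) (Subgroup.mem_sup_right hbp)] at hxe
    have hAa : A a ∈ T₁ := mem_of_stronglyClosed h.closed₁ hA₁ hap ha
    have hAb : A b ∈ T₂ := mem_of_stronglyClosed h.closed₂ hA (Subgroup.mem_sup_right hbp) hb
    set w := (A a)⁻¹ * y with hw
    have hw₁ : w ∈ T₁ := T₁.mul_mem (T₁.inv_mem hAa) hy.2
    have hwe : w = A b * b'⁻¹ := by
      rw [hw, eq_mul_inv_of_mul_eq hxe.symm]; group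
    have hw₂ : w ∈ T₂ := hwe ▸ T₂.mul_mem hAb (T₂.inv_mem hb')
    have hZP : T₁ ⊓ T₂ ≤ pr T₁ T₂ P := inf_le_pr
    haveI : Finite (T₁ ⊓ T₂ : Subgroup Ω) := finite_of_le (inf_le_left.trans h.le₁)
    have hZ := (hA₁.mono hZP).image_eq_of_mapsTo fun z hz =>
      ⟨mem_of_stronglyClosed h.closed₁ (hA₁.mono hZP) hz hz.1,
        mem_of_stronglyClosed h.closed₂ (hA₁.mono hZP) hz hz.2⟩
    obtain ⟨z, hz, hzw⟩ := hZ.ge (show w ∈ (T₁ ⊓ T₂ : Subgroup Ω) from ⟨hw₁, hw₂⟩)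
    refine hA₁.mem_imgSub.2 ⟨a * z, Subgroup.mul_mem _ hap (hZP hz), ?_⟩
    rw [hA₁.map_mul hap (hZP hz), hzw, hw, mul_inv_cancel_left]

/-- A map with fully normalized image either has a larger extension, or its source is a product. -/
theorem extend_step {P K : Subgroup Ω} {s : Ω → Ω} (hP : P ≤ T₁ ⊔ T₂) (hs : IsIso F P K s)
    (hK : F.IsFullyNormalized K) :
    pr T₁ T₂ P ⊔ pr T₂ T₁ P ≤ P ∨ ∃ P' g, P < P' ∧ P' ≤ T₁ ⊔ T₂ ∧ IsMap F P' g ∧ ∀ x ∈ P, g x = s x := by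
  set X := pr T₁ T₂ P ⊔ pr T₂ T₁ P with hX
  have hPX : P ≤ X := h.le_pr_sup hP
  have hXU : X ≤ T₁ ⊔ T₂ := sup_le (pr_le.trans le_sup_left) (pr_le.trans le_sup_right)
  have hXS : X ≤ S := hXU.trans h.le_U
  rcases hPX.eq_or_lt with heq | hlt
  · exact Or.inl heq.ge
  right
  haveI := finite_of_le hXS
  obtain ⟨y, hy, hyP⟩ := SetLike.exists_of_lt (lt_normalizerIn (h.hS.to_le hXS) hlt)
  obtain ⟨hyX, hyn⟩ := mem_normalizerIn.1 hy
  obtain ⟨a, ha, b₁, hb₁, rfl⟩ := h.exists_mul_le pr_le pr_le hyX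
  obtain ⟨b₂, hb₂, hab⟩ := h.exists_of_pr hP ha
  set b := b₂⁻¹ * b₁ with hb
  have hb2 : b ∈ T₂ := T₂.mul_mem (T₂.inv_mem hb₂) hb₁.2
  have hbe : b = (a * b₂)⁻¹ * (a * b₁) := by rw [hb]; group
  have hbn : b ∈ Subgroup.normalizer (P : Set Ω) := by
    rw [hbe]
    exact mul_mem (inv_mem (Subgroup.le_normalizer hab)) (Subgroup.mem_normalizer_iff.2 hyn)
  have hbP : b ∉ P := fun hc => hyP (by
    have := P.mul_mem hab hc
    rwa [hbe, mul_inv_cancel_left] at this)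
  have hbX : b ∈ pr T₂ T₁ P :=
    Subgroup.mul_mem _ (Subgroup.inv_mem _ (h.mem_pr_right ha.2 hb₂ hab)) hb₁
  have hPS : P ≤ S := hP.trans h.le_U
  have hKS : K ≤ S := hK.1
  haveI := finite_of_le hKS
  haveI := finite_mulAut_of_le hKS
  haveI := finite_autGroup F hKS
  have hbN : b ∈ normalizerIn S P := ⟨h.le₂ hb2, hbn⟩
  set γ := hs.autEquiv (conjAut hbn) with hγ
  have hγF : γ ∈ F.autGroup K := hs.autEquiv_mem_autGroup (conjAut_mem_autGroup F hPS hbN)
  have hγe : ∀ y ∈ P, autMap γ (s y) = s (b * y * b⁻¹) := fun y hy => by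
    rw [hγ, hs.autMap_autEquiv _ hy, autMap_conjAut hbn hy, conjMap_apply]
  have hγM : γ ∈ innMod T₂ K := by
    refine mem_innMod.2 ⟨fun z hz => ?_, ?_⟩
    · obtain ⟨y, hy, rfl⟩ := hs.exists_preimage hz
      have hby : b * y * b⁻¹ ∈ P := (Subgroup.mem_normalizer_iff.1 hbn y).1 hy
      rw [hγe y hy, ← hs.isMap.map_inv hy, ← hs.isMap.map_mul (P.inv_mem hy) hby]
      refine mem_of_stronglyClosed h.closed₂ hs.isMap (P.mul_mem (P.inv_mem hy) hby) ?_
      rw [show y⁻¹ * (b * y * b⁻¹) = y⁻¹ * b * y⁻¹⁻¹ * b⁻¹ by group]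
      exact T₂.mul_mem (conj_mem_closed h.closed₂ (S.inv_mem (hPS hy)) hb2) (T₂.inv_mem hb2)
    · obtain ⟨a', ha', hab'⟩ := h.symm.exists_of_pr (sup_comm T₁ T₂ ▸ hP) hbX
      refine ⟨s (b * a'), hs.mem hab', fun z hz hzT => ?_⟩
      obtain ⟨w, hw, rfl⟩ := hs.exists_preimage hz
      obtain ⟨t, ht, hts, -⟩ := hs.exists_symm
      have hwT : w ∈ T₂ := by
        have h1 := mem_of_stronglyClosed h.closed₂ ht.isMap hz hzT
        rwa [hts w hw] at h1
      rw [hγe w hw, ← hs.isMap.map_conj hab' hw]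
      congr 1
      have hc := h.comm a' ha' w hwT
      calc b * w * b⁻¹ = b * (w * a') * a'⁻¹ * b⁻¹ := by group
        _ = _ := by rw [← hc]; group
  obtain ⟨k, hk⟩ := IsPGroup.iff_card.1 (h.hS.to_le hKS)
  obtain ⟨-, Sy, hSy⟩ := isFullyAutomized_of_isFullyNormalized h.hS h.hF hK
  set M := (innMod T₂ K).subgroupOf (F.autGroup K) with hM
  haveI : M.Normal := ⟨fun α hα g => innMod_conj hKS h.closed₂ g.2 hα⟩
  have hMp : IsPGroup p M := fun α => ⟨k + k, Subtype.ext (Subtype.ext (innMod_pow hk α.2))⟩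
  have hγS : γ ∈ autInducedBy S K := by
    have h1 : (⟨γ, hγF⟩ : F.autGroup K) ∈ (Sy : Subgroup (F.autGroup K)) :=
      hMp.le_sylow_of_normal Sy (Subgroup.mem_subgroupOf.2 hγM)
    rw [hSy] at h1
    exact h1
  obtain ⟨n, hn, hnn, hne⟩ := mem_autInducedBy.1 hγS
  obtain ⟨g, hg, hge⟩ := receptive_extend (receptive_of_isFullyNormalized h.hS h.hF hK) hs
    (N := Subgroup.zpowers b ⊔ P) fun x hx => by
      let W : Subgroup Ω :=
        { carrier := {x | InExt S P s x}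
          one_mem' := ⟨S.one_mem, one_mem _, 1, S.one_mem, fun y _ => by simp⟩
          mul_mem' := by
            rintro u v ⟨hu, hun, m, hm, hmu⟩ ⟨hv, hvn, m', hm', hmv⟩
            refine ⟨S.mul_mem hu hv, mul_mem hun hvn, m * m', S.mul_mem hm hm', fun y hy => ?_⟩
            rw [show u * v * y * (u * v)⁻¹ = u * (v * y * v⁻¹) * u⁻¹ by group,
              hmu _ ((Subgroup.mem_normalizer_iff.1 hvn y).1 hy), hmv y hy]
            group
          inv_mem' := by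
            rintro u ⟨hu, hun, m, hm, hmu⟩
            refine ⟨S.inv_mem hu, inv_mem hun, m⁻¹, S.inv_mem hm, fun y hy => ?_⟩
            have h1 := hmu _ ((Subgroup.mem_normalizer_iff.1 (inv_mem hun) y).1 hy)
            rw [show u * (u⁻¹ * y * u⁻¹⁻¹) * u⁻¹ = y by group] at h1
            rw [h1]
            group }
      refine (sup_le (Subgroup.zpowers_le.2 ?_) fun u hu => ?_ : Subgroup.zpowers b ⊔ P ≤ W) hx
      · refine ⟨h.le₂ hb2, hbn, n, hn, fun y hy => ?_⟩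
        rw [← hγe y hy, hne, autMap_conjAut hnn (hs.mem hy), conjMap_apply]
      · exact ⟨hPS hu, Subgroup.le_normalizer hu, s u, hKS (hs.mem hu),
          fun y hy => hs.isMap.map_conj hu hy⟩
  refine ⟨Subgroup.zpowers b ⊔ P, g, lt_of_le_of_ne le_sup_right fun heq => hbP ?_,
    sup_le (Subgroup.zpowers_le.2 (Subgroup.mem_sup_right hb2)) hP, hg.mono le_sup_left, hge⟩
  exact heq.ge (Subgroup.mem_sup_left (Subgroup.mem_zpowers b))

/-- Every map extends to the product of the projections of its source. -/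
theorem extend_proj {P : Subgroup Ω} {s : Ω → Ω} (hP : P ≤ T₁ ⊔ T₂) (hs : IsMap F P s) :
    ∃ A, IsMap F (pr T₁ T₂ P ⊔ pr T₂ T₁ P) A ∧ ∀ x ∈ P, A x = s x := by
  induction hn : Nat.card S - Nat.card P using Nat.strong_induction_on generalizing P s with
  | _ n ih =>
  subst hn
  have claim : ∀ (P₁ K : Subgroup Ω) (u : Ω → Ω), P₁ ≤ T₁ ⊔ T₂ → IsIso F P₁ K u →
      F.IsFullyNormalized K → Nat.card P₁ = Nat.card P →
      ∃ A, IsMap F (pr T₁ T₂ P₁ ⊔ pr T₂ T₁ P₁) A ∧ ∀ x ∈ P₁, A x = u x := by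
    intro P₁ K u hP₁ hu hK hcard
    rcases h.extend_step hP₁ hu hK with hle | ⟨P', g, hlt, hP', hg, hge⟩
    · exact ⟨u, hu.isMap.mono hle, fun _ _ => rfl⟩
    · haveI := finite_of_le (hP'.trans h.le_U)
      have h1 : Nat.card P₁ < Nat.card P' := by
        refine lt_of_le_of_ne (Subgroup.card_le_of_le hlt.le) fun he => ?_
        exact hlt.ne (Subgroup.eq_of_le_of_card_ge hlt.le he.ge)
      have h2 : Nat.card P' ≤ Nat.card S := Subgroup.card_le_of_le (hP'.trans h.le_U)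
      obtain ⟨A, hA, hAe⟩ := ih _ (by omega) hP' hg rfl
      exact ⟨A, hA.mono (sup_le_sup (pr_mono _ _ hlt.le) (pr_mono _ _ hlt.le)),
        fun x hx => (hAe x (hlt.le hx)).trans (hge x hx)⟩
  have hsi := hs.isIso
  set Q := imgSub s P with hQ
  obtain ⟨K, hQK, hK⟩ := exists_isFullyNormalized F hsi.target_le
  obtain ⟨g, -, hgi, -⟩ := exists_map_to_fullyNormalized h.hS h.hF hK hQK
  have hQU : Q ≤ T₁ ⊔ T₂ := fun y hy => by
    obtain ⟨x, hx, rfl⟩ := hs.mem_imgSub.1 hy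
    exact mem_of_stronglyClosed h.closed hs hx (hP hx)
  obtain ⟨A, hA, hAe⟩ := claim P K _ hP (hsi.comp hgi) hK rfl
  obtain ⟨B, hB, hBe⟩ := claim Q K g hQU hgi hK hsi.card_eq.symm
  obtain ⟨B', hB', hB'e⟩ := hB.exists_inv
  have hi₁ : imgSub A (pr T₁ T₂ P) = imgSub B (pr T₁ T₂ Q) := by
    rw [h.img_pr hP hA hAe (hsi.comp hgi).isMap, h.img_pr hQU hB hBe hgi.isMap,
      ← (hsi.comp hgi).eq_imgSub, ← hgi.eq_imgSub]
  have hi₂ : imgSub A (pr T₂ T₁ P) = imgSub B (pr T₂ T₁ Q) := by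
    rw [h.symm.img_pr (sup_comm T₁ T₂ ▸ hP) (sup_comm (pr T₁ T₂ P) _ ▸ hA) hAe (hsi.comp hgi).isMap,
      h.symm.img_pr (sup_comm T₁ T₂ ▸ hQU) (sup_comm (pr T₁ T₂ Q) _ ▸ hB) hBe hgi.isMap,
      ← (hsi.comp hgi).eq_imgSub, ← hgi.eq_imgSub]
  have hin : ∀ x ∈ pr T₁ T₂ P ⊔ pr T₂ T₁ P, A x ∈ imgSub B (pr T₁ T₂ Q ⊔ pr T₂ T₁ Q) :=
    fun x hx => hA.mapsTo_sup (fun a ha => by
        obtain ⟨q, hq, hqe⟩ := (hB.mono le_sup_left).mem_imgSub.1
          (hi₁.le ((hA.mono le_sup_left).mem_imgSub.2 ⟨a, ha, rfl⟩))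
        exact hB.mem_imgSub.2 ⟨q, Subgroup.mem_sup_left hq, hqe⟩)
      (fun a ha => by
        obtain ⟨q, hq, hqe⟩ := (hB.mono le_sup_right).mem_imgSub.1
          (hi₂.le ((hA.mono le_sup_right).mem_imgSub.2 ⟨a, ha, rfl⟩))
        exact hB.mem_imgSub.2 ⟨q, Subgroup.mem_sup_right hq, hqe⟩) hx
  refine ⟨B' ∘ A, hA.comp hB' hin, fun x hx => ?_⟩
  rw [Function.comp_apply, hAe x hx, Function.comp_apply, ← hBe _ (hsi.mem hx),
    hB'e _ (h.le_pr_sup hQU (hsi.mem hx))]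

end Ctx

end Cfsg.Agent.H89.Prod
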