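import Cfsg.Agent.H89.Prod.Normal

/-!
A normal subsystem of a factor of a product is normal in the product.
-/

set_option autoImplicit false
set_option linter.style.haveILetI false
set_option linter.unusedSectionVars false

namespace Cfsg.Agent.H89.Prod

open Cfsg Cfsg.FusionSystem Cfsg.Agent.FusionSys Cfsg.Agent.H91.CentFocal
open Cfsg.Agent.H89.ResidualNormal (maps_top)
open Cfsg.FusionSystem (centralizerIn normalizerIn)

variable {Ω : Type*} [Group Ω] {S T T₁ T₂ U : Subgroup Ω} {p : ℕ} [Finite S] [Fact p.Prime]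

/-- A normal subsystem of a factor is normal in the product. -/
theorem isNormalIn_of_factor {C : FusionSystem T} {E₁ : FusionSystem T₁} {D : FusionSystem U}
    (hUS : U ≤ S) (hU : U = T₁ ⊔ T₂) (hC : C.IsNormalIn E₁ p) (hDs : D.IsSaturated p)
    (hcomm : ∀ a ∈ T₁, ∀ b ∈ T₂, a * b = b * a) (hcen : E₁.IsCentral (T₁ ⊓ T₂))
    (heq : ∀ P f, P ≤ T₁ → IsMap D P f → IsMap E₁ P f)
    (hfix : ∀ R e, IsMap E₁ R e → T₁ ⊓ T₂ ≤ R →
      ∃ g, IsMap D (R ⊔ T₂) g ∧ (∀ x ∈ R, g x = e x) ∧ ∀ y ∈ T₂, g y = y) :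
    C.IsNormalIn D p := by
  have hTT : T ≤ T₁ := hC.1.2.2.2.1.1
  have h1U : T₁ ≤ U := hU ▸ le_sup_left
  have h2U : T₂ ≤ U := hU ▸ le_sup_right
  have hTU : T ≤ U := hTT.trans h1U
  haveI : Finite U := finite_of_le hUS
  haveI : Finite T₁ := finite_of_le h1U
  have hsub₁ : ∀ P f, IsMap E₁ P f → IsMap D P f := fun P f hf => by
    obtain ⟨e, he, hee, -⟩ := (Cfsg.Agent.FusionSys.isCentral_iff.1 hcen).2 P f hf
    obtain ⟨g, hg, hge, -⟩ := hfix _ e he le_sup_right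
    exact (hg.mono (le_sup_left.trans le_sup_left)).congr fun x hx => by
      rw [hge x (Subgroup.mem_sup_left hx), hee x hx]
  obtain ⟨hCsub, hclE, hconjE, hfrE⟩ := H59.Transp.isInvariant_iff_isMap.1 hC.1.2.2
  have hclosed : D.StronglyClosed T := stronglyClosed_iff.2 ⟨hTU, fun P f hP hf x hx =>
    (stronglyClosed_iff.1 hclE).2 P f hP (heq P f (hP.trans hTT) hf) x hx⟩
  have haut : ∀ α : MulAut T, α ∈ D.autGroup T ↔ α ∈ E₁.autGroup T := fun α => by
    rw [mem_autGroup_iff hTU, mem_autGroup_iff hTT]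
    exact ⟨heq T _ hTT, hsub₁ T _⟩
  refine ⟨⟨hC.1.1, hDs, H59.Transp.isInvariant_iff_isMap.2
    ⟨isSubsystemOf_iff_isMap.2 fun P f hf => hsub₁ P f (isMap_of_sub hCsub hf), hclosed,
      fun P f hf α hα => hconjE P f hf α ((haut α).1 hα), fun P f hP hf => ?_⟩⟩, fun α hα => ?_⟩
  · obtain ⟨α, hα, g, hg, hge⟩ := hfrE P f hP (heq P f (hP.trans hTT) hf)
    exact ⟨α, (haut α).2 hα, g, hg, hge⟩
  set R := T ⊔ centralizerIn T₁ T with hR
  obtain ⟨β, hβ, hβT, hβc⟩ := hC.2 α hα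
  have hRT : R ≤ T₁ := sup_le hTT centralizerIn_le
  haveI : Finite R := finite_of_le hRT
  have hβm : IsMap E₁ R (autMap β) := (mem_autGroup_iff hRT).1 hβ
  have hZR : T₁ ⊓ T₂ ≤ R := fun z hz => Subgroup.mem_sup_right (FusionSys.mem_centralizerIn.2
    ⟨hz.1, fun t ht => hcomm t (hTT ht) z hz.2⟩)
  obtain ⟨g, hg, hge, hg2⟩ := hfix R _ hβm hZR
  have hsplit : ∀ c ∈ centralizerIn U T, ∃ a ∈ centralizerIn T₁ T, ∃ b ∈ T₂, a * b = c := by
    intro c hc
    obtain ⟨hcU, hcc⟩ := FusionSys.mem_centralizerIn.1 hc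
    have hc' : c ∈ T₁ ⊔ T₂ := hU ▸ hcU
    rw [← SetLike.mem_coe, Subgroup.coe_mul_of_left_le_normalizer_right T₁ T₂ fun a ha =>
      Subgroup.mem_normalizer_iff.2 fun b => ⟨fun hb => by
        rw [hcomm a ha b hb, mul_inv_cancel_right]; exact hb, fun hb => by
        have h1 := hcomm _ (T₁.inv_mem ha) _ hb
        rw [← mul_assoc, ← mul_assoc, inv_mul_cancel, one_mul] at h1
        rw [mul_right_cancel h1]
        exact hb⟩] at hc'
    obtain ⟨a, ha, b, hb, rfl⟩ := Set.mem_mul.1 hc'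
    refine ⟨a, FusionSys.mem_centralizerIn.2 ⟨ha, fun t ht => ?_⟩, b, hb, rfl⟩
    have h1 := hcc t ht
    have h2 := hcomm t (hTT ht) b hb
    refine mul_right_cancel (b := b) ?_
    calc t * a * b = t * (a * b) := mul_assoc _ _ _
      _ = a * b * t := h1
      _ = a * (t * b) := by rw [h2, mul_assoc]
      _ = _ := (mul_assoc _ _ _).symm
  have hX : T ⊔ centralizerIn U T ≤ R ⊔ T₂ := sup_le (le_sup_left.trans le_sup_left) fun c hc => by
    obtain ⟨a, ha, b, hb, rfl⟩ := hsplit c hc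
    exact Subgroup.mul_mem _ (Subgroup.mem_sup_left (Subgroup.mem_sup_right ha)) (Subgroup.mem_sup_right hb)
  have hgX := hg.mono hX
  haveI : Finite (T ⊔ centralizerIn U T : Subgroup Ω) := finite_of_le hgX.le
  obtain ⟨β', hβ', hβ'e⟩ := (isIso_of_mapsTo hgX fun y hy => maps_top hclosed hgX hy).exists_aut
  refine ⟨β', hβ', fun x => ?_, fun c hc => ?_⟩
  · rw [← autMap_coe β', Subgroup.coe_inclusion, hβ'e _ (Subgroup.mem_sup_left x.2),
      hge _ (Subgroup.mem_sup_left x.2)]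
    rw [autMap_apply β (Subgroup.mem_sup_left x.2)]
    exact hβT x
  · rw [← autMap_coe β', hβ'e _ c.2]
    obtain ⟨a, ha, b, hb, hab⟩ := hsplit _ hc
    have haR : a ∈ R := Subgroup.mem_sup_right ha
    have e : (c : Ω)⁻¹ * g c = a⁻¹ * autMap β a := by
      have hm : a⁻¹ * autMap β a ∈ T₁ := T₁.mul_mem (T₁.inv_mem (hRT haR)) (hβm.mem_S haR)
      rw [← hab, hg.map_mul (Subgroup.mem_sup_left haR) (Subgroup.mem_sup_right hb), hge a haR, hg2 b hb]
      calc (a * b)⁻¹ * (autMap β a * b) = b⁻¹ * (a⁻¹ * autMap β a * b) := by group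
        _ = _ := by rw [hcomm _ hm b hb, inv_mul_cancel_left]
    rw [e]
    have := hβc ⟨a, Subgroup.mem_sup_right ha⟩ ha
    rw [autMap_apply β haR]
    exact this

end Cfsg.Agent.H89.Prod

namespace Cfsg.Agent.H89.Prod

open Cfsg Cfsg.FusionSystem Cfsg.Agent.FusionSys Cfsg.Agent.H91.CentFocal

variable {Ω : Type*} [Group Ω] {S T T₁ T₂ U : Subgroup Ω} {p : ℕ} [Finite S] [Fact p.Prime]
  {F : FusionSystem S}

/-- A normal subsystem of a factor of the product of two normal subsystems is normal in it. -/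
theorem Ctx.normal_of_factor {E₁ : FusionSystem T₁} {E₂ : FusionSystem T₂} {D : FusionSystem U}
    (h : Ctx p F E₁ E₂) (hD : IsCentralProductOf E₁ E₂ D) {C : FusionSystem T}
    (hC : C.IsNormalIn E₁ p) : C.IsNormalIn D p := by
  refine isNormalIn_of_factor (h.closed_U hD).1 (h.eq_sup hD) hC (h.saturated hD) h.comm h.central_inf
    (fun P f hP hf => ?_) fun R e he hZR => ?_
  · obtain ⟨-, G, -, hG₁, -, hfe⟩ := (h.isMap_iff hD).1 hf
    exact (hG₁.mono (self_le_pr hP)).congr hfe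
  · obtain ⟨G, hG, hG₁, hG₂, e₁, e₂⟩ := h.joint he (isMap_id E₂ (le_refl T₂))
    have hle : pr T₁ T₂ (R ⊔ T₂) ≤ R := by
      refine le_trans ?_ (h.inf_sup₁ he.le hZR)
      exact inf_le_inf_right T₁ (sup_le le_rfl le_sup_right)
    refine ⟨G, (h.isMap_iff hD).2 ⟨sup_le (he.le.trans le_sup_left) le_sup_right, G,
      hG.mono (sup_le_sup hle pr_le), hG₁.mono hle, hG₂.mono pr_le, fun _ _ => rfl⟩, e₁, e₂⟩

/-- A normal subsystem of the layer is normal in the generalized Fitting subsystem. -/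
theorem fstar_normal_of_factor {E : FusionSystem T₁} {Q : Subgroup Ω} {D : FusionSystem U}
    (h : FStar.Ctx p F E Q) (hD : IsCentralProductOf (innerFusionSystem Q) E D) {C : FusionSystem T}
    (hC : C.IsNormalIn E p) : C.IsNormalIn D p := by
  refine isNormalIn_of_factor (h.closed_U hD).1 ((h.eq_sup hD).trans (sup_comm _ _)) hC (h.saturated hD)
    (fun a ha b hb => (h.comm hb ha).symm) (inf_comm Q T₁ ▸ h.central_inf) (fun P f hP hf => ?_)
    fun R e he _ => ?_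
  · obtain ⟨q, hq, R, g, hR, hgF, hgE, hgQ, hPR, hfe⟩ := (h.isMap_iff hD).1 hf
    obtain ⟨e, he, hee, heQ⟩ := (isCentral_iff.1 h.central_inf).2 R g hgE
    have hle : P ≤ R ⊔ Q ⊓ T₁ := fun x hx => h.sup_inf hR ⟨hPR hx, hP hx⟩
    have hgP : IsMap E P g := (he.mono hle).congr fun x hx =>
      ((hgF.mono (sup_le_sup_left inf_le_left R)).eqOn_sup (isMap_of_sub h.sub he)
        (fun z hz => (hee z hz).symm) (fun z hz => by rw [hgQ z hz.1, heQ z hz]) (hle hx))
    exact hgP.congr fun x hx => by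
      rw [hfe x hx, conjMap_apply, h.comm hq (hgP.mem_S hx), mul_inv_cancel_right]
  · obtain ⟨g, hg, hge, hgQ⟩ := h.fix he
    exact ⟨g, (h.isMap_iff hD).2 ⟨1, Q.one_mem, R, g, he.le, hg, he.congr hge, hgQ, le_rfl,
      fun _ _ => by rw [conjMap_apply, one_mul, inv_one, mul_one]⟩, hge, hgQ⟩

end Cfsg.Agent.H89.Prod
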