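import Cfsg.Agent.H89.Prod.Cent
import Cfsg.Agent.H89.FStar.Basic

/-!
The product of two normal subsystems that centralize the supports of each other.
-/

set_option autoImplicit false
set_option linter.style.haveILetI false
set_option linter.unusedSectionVars false

namespace Cfsg.Agent.H89.Prod

open Cfsg Cfsg.FusionSystem Cfsg.Agent.FusionSys Cfsg.Agent.H91.CentFocal
open Cfsg.Agent.H89 (KerEq)
open Cfsg.FusionSystem (centralizerIn normalizerIn)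

variable {Ω : Type*} [Group Ω] {S T T₁ T₂ : Subgroup Ω} {F : FusionSystem S} {p : ℕ}
  {E₁ : FusionSystem T₁} {E₂ : FusionSystem T₂}

/-- The elements of `A` in `P B`. -/
def pr (A B P : Subgroup Ω) : Subgroup Ω := (P ⊔ B) ⊓ A

theorem pr_mono (A B : Subgroup Ω) {P R : Subgroup Ω} (h : P ≤ R) : pr A B P ≤ pr A B R :=
  inf_le_inf_right A (sup_le_sup_right h B)

theorem pr_le {A B P : Subgroup Ω} : pr A B P ≤ A := inf_le_right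

theorem inf_le_pr {A B P : Subgroup Ω} : A ⊓ B ≤ pr A B P :=
  fun _ hx => ⟨Subgroup.mem_sup_right hx.2, hx.1⟩

theorem self_le_pr {A B P : Subgroup Ω} (hP : P ≤ A) : P ≤ pr A B P :=
  fun _ hx => ⟨Subgroup.mem_sup_left hx, hP hx⟩

theorem exists_sup_closed (hT : F.StronglyClosed T) {P : Subgroup Ω} (hP : P ≤ S) {y : Ω}
    (hy : y ∈ P ⊔ T) : ∃ x ∈ P, ∃ t ∈ T, x * t = y := by
  rw [← SetLike.mem_coe, Subgroup.coe_mul_of_left_le_normalizer_right P T fun s hs =>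
    Subgroup.mem_normalizer_iff.2 fun t => ⟨fun ht => conj_mem_closed hT (hP hs) ht, fun ht => by
      simpa [mul_assoc] using conj_mem_closed hT (S.inv_mem (hP hs)) ht⟩] at hy
  exact Set.mem_mul.1 hy

/-- Two normal subsystems, each centralizing the support of the other. -/
structure Ctx (p : ℕ) (F : FusionSystem S) (E₁ : FusionSystem T₁) (E₂ : FusionSystem T₂) : Prop where
  hS : IsPGroup p S
  hF : F.IsSaturated p
  h₁ : E₁.IsNormalIn F p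
  h₂ : E₂.IsNormalIn F p
  comm : ∀ a ∈ T₁, ∀ b ∈ T₂, a * b = b * a
  c₁ : ∀ (P : Subgroup Ω) (f : Ω → Ω), IsMap E₁ P f →
    ∃ g, IsMap F (P ⊔ T₂) g ∧ (∀ x ∈ P, g x = f x) ∧ ∀ y ∈ T₂, g y = y
  c₂ : ∀ (P : Subgroup Ω) (f : Ω → Ω), IsMap E₂ P f →
    ∃ g, IsMap F (P ⊔ T₁) g ∧ (∀ x ∈ P, g x = f x) ∧ ∀ y ∈ T₁, g y = y

/-- The context given by commuting supports with central intersection. -/
theorem ctx_of_commute [Finite S] [Fact p.Prime] (hS : IsPGroup p S) (hF : F.IsSaturated p)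
    (h₁ : E₁.IsNormalIn F p) (h₂ : E₂.IsNormalIn F p) (hcomm : ∀ a ∈ T₁, ∀ b ∈ T₂, a * b = b * a)
    (hz₁ : ∀ (P : Subgroup Ω) (f : Ω → Ω), IsMap E₁ P f → ∀ x ∈ P, x ∈ T₂ → f x = x)
    (hz₂ : ∀ (P : Subgroup Ω) (f : Ω → Ω), IsMap E₂ P f → ∀ x ∈ P, x ∈ T₁ → f x = x) :
    Ctx p F E₁ E₂ :=
  ⟨hS, hF, h₁, h₂, hcomm,
    fun _ _ hf => cent_of_commute hS hF h₁ h₂.1.2.2.2.1 hcomm hz₁ hf,
    fun _ _ hf => cent_of_commute hS hF h₂ h₁.1.2.2.2.1 (fun a ha b hb => (hcomm b hb a ha).symm) hz₂ hf⟩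

namespace Ctx

variable (h : Ctx p F E₁ E₂)
include h

theorem symm : Ctx p F E₂ E₁ :=
  ⟨h.hS, h.hF, h.h₂, h.h₁, fun a ha b hb => (h.comm b hb a ha).symm, h.c₂, h.c₁⟩

theorem closed₁ : F.StronglyClosed T₁ := h.h₁.1.2.2.2.1

theorem closed₂ : F.StronglyClosed T₂ := h.h₂.1.2.2.2.1

theorem le₁ : T₁ ≤ S := h.closed₁.1

theorem le₂ : T₂ ≤ S := h.closed₂.1

theorem le_U : T₁ ⊔ T₂ ≤ S := sup_le h.le₁ h.le₂

theorem sub₁ : E₁.IsSubsystemOf F := h.h₁.1.2.2.1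

theorem fix_mem {P : Subgroup Ω} {f : Ω → Ω} (hf : IsMap E₁ P f) {x : Ω} (hx : x ∈ P) (hx2 : x ∈ T₂) :
    f x = x := by
  obtain ⟨g, -, hge, hg2⟩ := h.c₁ P f hf
  rw [← hge x hx, hg2 x hx2]

theorem central_inf [Finite S] [Fact p.Prime] : E₁.IsCentral (T₁ ⊓ T₂) :=
  haveI : Finite T₁ := finite_of_le h.le₁
  isCentral_of_singleton (h.hS.to_le h.le₁) h.h₁.1.1 inf_le_left
    fun _ _ hf _ hx hxT => h.fix_mem hf hx hxT.2

theorem exists_mul {y : Ω} (hy : y ∈ T₁ ⊔ T₂) : ∃ a ∈ T₁, ∃ b ∈ T₂, a * b = y :=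
  exists_sup_closed h.closed₂ h.le₁ hy

theorem exists_mul_le {A B : Subgroup Ω} (hA : A ≤ T₁) (hB : B ≤ T₂) {y : Ω} (hy : y ∈ A ⊔ B) :
    ∃ a ∈ A, ∃ b ∈ B, a * b = y := by
  rw [← SetLike.mem_coe, Subgroup.coe_mul_of_left_le_normalizer_right A B fun a ha =>
    Subgroup.mem_normalizer_iff.2 fun b => ⟨fun hb => by
      rw [h.comm a (hA ha) b (hB hb), mul_inv_cancel_right]; exact hb, fun hb => by
      have h1 := h.comm _ (T₁.inv_mem (hA ha)) _ (hB hb)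
      rw [← mul_assoc, ← mul_assoc, inv_mul_cancel, one_mul] at h1
      rw [mul_right_cancel h1]
      exact hb⟩] at hy
  exact Set.mem_mul.1 hy

theorem mem_pr_left {P : Subgroup Ω} {a b : Ω} (ha : a ∈ T₁) (hb : b ∈ T₂) (hab : a * b ∈ P) :
    a ∈ pr T₁ T₂ P := by
  refine ⟨?_, ha⟩
  have := (P ⊔ T₂).mul_mem (Subgroup.mem_sup_left hab) (Subgroup.mem_sup_right (T₂.inv_mem hb))
  rwa [mul_inv_cancel_right] at this

theorem mem_pr_right {P : Subgroup Ω} {a b : Ω} (ha : a ∈ T₁) (hb : b ∈ T₂) (hab : a * b ∈ P) :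
    b ∈ pr T₂ T₁ P := by
  refine ⟨?_, hb⟩
  have := (P ⊔ T₁).mul_mem (Subgroup.mem_sup_right (T₁.inv_mem ha)) (Subgroup.mem_sup_left hab)
  rwa [inv_mul_cancel_left] at this

/-- Every element of `P` splits into its projections. -/
theorem le_pr_sup {P : Subgroup Ω} (hP : P ≤ T₁ ⊔ T₂) : P ≤ pr T₁ T₂ P ⊔ pr T₂ T₁ P := fun x hx => by
  obtain ⟨a, ha, b, hb, rfl⟩ := h.exists_mul (hP hx)
  exact Subgroup.mul_mem _ (Subgroup.mem_sup_left (h.mem_pr_left ha hb hx))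
    (Subgroup.mem_sup_right (h.mem_pr_right ha hb hx))

theorem exists_of_pr {P : Subgroup Ω} (hP : P ≤ T₁ ⊔ T₂) {a : Ω} (ha : a ∈ pr T₁ T₂ P) :
    ∃ b ∈ T₂, a * b ∈ P := by
  obtain ⟨x, hx, t, ht, rfl⟩ := exists_sup_closed h.closed₂ (hP.trans h.le_U) ha.1
  exact ⟨t⁻¹, T₂.inv_mem ht, by rwa [mul_inv_cancel_right]⟩

theorem inf_sup₁ {R : Subgroup Ω} (hR : R ≤ T₁) (hZ : T₁ ⊓ T₂ ≤ R) : (R ⊔ T₂) ⊓ T₁ ≤ R := by
  rintro y ⟨hy, hy1⟩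
  obtain ⟨a, ha, b, hb, rfl⟩ := h.exists_mul_le hR le_rfl hy
  refine R.mul_mem ha (hZ ⟨?_, hb⟩)
  have := T₁.mul_mem (T₁.inv_mem (hR ha)) hy1
  rwa [inv_mul_cancel_left] at this

/-- Multiplication `T₁ × T₂ → Ω`. -/
noncomputable def mul : ↥(T₁.prod T₂) →* Ω where
  toFun x := (x : Ω × Ω).1 * (x : Ω × Ω).2
  map_one' := one_mul 1
  map_mul' := fun a b => by
    show (a : Ω × Ω).1 * (b : Ω × Ω).1 * ((a : Ω × Ω).2 * (b : Ω × Ω).2) = _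
    rw [mul_assoc, ← mul_assoc (b : Ω × Ω).1, h.comm _ b.2.1 _ a.2.2, mul_assoc, ← mul_assoc,
      ← mul_assoc]

theorem range_mul : h.mul.range = T₁ ⊔ T₂ := by
  refine le_antisymm ?_ (sup_le (fun a ha => ⟨⟨(a, 1), ha, T₂.one_mem⟩, mul_one a⟩)
    fun t ht => ⟨⟨(1, t), T₁.one_mem, ht⟩, one_mul t⟩)
  rintro _ ⟨x, rfl⟩
  exact Subgroup.mul_mem _ (Subgroup.mem_sup_left x.2.1) (Subgroup.mem_sup_right x.2.2)

/-- Maps of the two systems combine. -/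
theorem joint {R₁ R₂ : Subgroup Ω} {f₁ f₂ : Ω → Ω} (hf₁ : IsMap E₁ R₁ f₁) (hf₂ : IsMap E₂ R₂ f₂) :
    ∃ G, IsMap F (R₁ ⊔ R₂) G ∧ IsMap E₁ R₁ G ∧ IsMap E₂ R₂ G ∧ (∀ a ∈ R₁, G a = f₁ a) ∧
      ∀ b ∈ R₂, G b = f₂ b := by
  obtain ⟨g₁, hg₁, h1e, h12⟩ := h.c₁ R₁ f₁ hf₁
  obtain ⟨g₂, hg₂, h2e, h21⟩ := h.c₂ R₂ f₂ hf₂
  have hle : R₁ ⊔ R₂ ≤ R₂ ⊔ T₁ := sup_le (hf₁.le.trans le_sup_right) le_sup_left
  have hin : ∀ x ∈ R₁ ⊔ R₂, g₂ x ∈ R₁ ⊔ T₂ := fun x hx => (hg₂.mono hle).mapsTo_sup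
    (fun a ha => Subgroup.mem_sup_left ((h21 a (hf₁.le ha)).symm ▸ ha))
    (fun b hb => Subgroup.mem_sup_right ((h2e b hb).symm ▸ hf₂.mem_S hb)) hx
  have e₁ : ∀ a ∈ R₁, (g₁ ∘ g₂) a = f₁ a := fun a ha => by
    rw [Function.comp_apply, h21 a (hf₁.le ha), h1e a ha]
  have e₂ : ∀ b ∈ R₂, (g₁ ∘ g₂) b = f₂ b := fun b hb => by
    rw [Function.comp_apply, h2e b hb, h12 _ (hf₂.mem_S hb)]
  exact ⟨g₁ ∘ g₂, (hg₂.mono hle).comp hg₁ hin, hf₁.congr e₁, hf₂.congr e₂, e₁, e₂⟩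

end Ctx

/-- `f` is the restriction of a map acting on the projections of `P` through the two systems. -/
def DMap (F : FusionSystem S) (E₁ : FusionSystem T₁) (E₂ : FusionSystem T₂) (P : Subgroup Ω)
    (f : Ω → Ω) : Prop :=
  P ≤ T₁ ⊔ T₂ ∧ ∃ G, IsMap F (pr T₁ T₂ P ⊔ pr T₂ T₁ P) G ∧ IsMap E₁ (pr T₁ T₂ P) G ∧
    IsMap E₂ (pr T₂ T₁ P) G ∧ ∀ x ∈ P, f x = G x

namespace Ctx

variable [Finite S] [Fact p.Prime] (h : Ctx p F E₁ E₂)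
include h

theorem finite_prod : Finite (T₁.prod T₂) :=
  haveI : Finite T₁ := finite_of_le h.le₁
  haveI : Finite T₂ := finite_of_le h.le₂
  Finite.of_equiv _ (T₁.prodEquiv T₂).symm.toEquiv

theorem prod_pGroup : IsPGroup p (T₁.prod T₂) := by
  intro x
  obtain ⟨i, hi⟩ := h.hS.to_le h.le₁ ⟨x.1.1, x.2.1⟩
  obtain ⟨j, hj⟩ := h.hS.to_le h.le₂ ⟨x.1.2, x.2.2⟩
  refine ⟨i + j, Subtype.ext (Prod.ext ?_ ?_)⟩
  · have : x.1.1 ^ p ^ i = 1 := congrArg Subtype.val hi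
    show x.1.1 ^ p ^ (i + j) = 1
    rw [pow_add, pow_mul, this, one_pow]
  · have : x.1.2 ^ p ^ j = 1 := congrArg Subtype.val hj
    show x.1.2 ^ p ^ (i + j) = 1
    rw [pow_add, mul_comm, pow_mul, this, one_pow]

variable {D₀ : FusionSystem (T₁.prod T₂)}

theorem product_saturated (hD₀ : IsProductSystem E₁ E₂ D₀) : D₀.IsSaturated p :=
  haveI : Finite T₁ := finite_of_le h.le₁
  haveI : Finite T₂ := finite_of_le h.le₂
  H49.isSaturated_product (h.hS.to_le h.le₁) (h.hS.to_le h.le₂) h.h₁.1.1 h.h₂.1.1 hD₀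

omit [Finite S] [Fact p.Prime] in
theorem ker_mem {x : Ω × Ω} (hx : x ∈ h.mul.ker.map (T₁.prod T₂).subtype) :
    x.1 ∈ T₁ ∧ x.2 ∈ T₂ ∧ x.1 ∈ T₂ ∧ x.2 ∈ T₁ ∧ x.1 * x.2 = 1 := by
  obtain ⟨s, hs, rfl⟩ := hx
  have h1 : (s : Ω × Ω).1 * (s : Ω × Ω).2 = 1 := hs
  refine ⟨s.2.1, s.2.2, ?_, ?_, h1⟩
  · show (s : Ω × Ω).1 ∈ T₂
    rw [eq_inv_of_mul_eq_one_left h1]
    exact T₂.inv_mem s.2.2
  · show (s : Ω × Ω).2 ∈ T₁
    rw [eq_inv_of_mul_eq_one_right h1]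
    exact T₁.inv_mem s.2.1

theorem ker_central (hD₀ : IsProductSystem E₁ E₂ D₀) :
    D₀.IsCentral (h.mul.ker.map (T₁.prod T₂).subtype) := by
  haveI := h.finite_prod
  refine isCentral_of_singleton h.prod_pGroup (h.product_saturated hD₀)
    (Subgroup.map_subtype_le _) fun P f hf x hx hxZ => ?_
  obtain ⟨-, -, h3, h4, -⟩ := h.ker_mem hxZ
  obtain ⟨-, f₁, f₂, hf₁, hf₂, he⟩ := H49.isMap_product hD₀ hf
  rw [he x hx]
  exact Prod.ext (h.fix_mem hf₁ (H49.mem_prj₁ hx) h3) (h.symm.fix_mem hf₂ (H49.mem_prj₂ hx) h4)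

/-- A central product of `E₁` and `E₂` exists. -/
theorem exists_centralProduct :
    ∃ (U : Subgroup Ω) (D : FusionSystem U), IsCentralProductOf E₁ E₂ D := by
  haveI : Finite T₁ := finite_of_le h.le₁
  haveI : Finite T₂ := finite_of_le h.le₂
  obtain ⟨D₀, hD₀⟩ := S5136.result p (h.hS.to_le h.le₁) (h.hS.to_le h.le₂) E₁ E₂
  haveI := h.finite_prod
  have hZ := h.ker_central hD₀
  have hθ : KerEq h.mul (h.mul.ker.map (T₁.prod T₂).subtype) := fun s =>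
    ⟨fun hs => ⟨s, hs, rfl⟩, fun ⟨s', hs', he⟩ => Subtype.ext he ▸ hs'⟩
  have hR := stronglyClosed_of_normal (ComponentFix.isNormal_of_isCentral hZ)
  refine ⟨_, factorSystem h.mul hθ hR rfl, D₀, hD₀, _, h.mul, le_center D₀ hZ, ?_, ?_,
    fun x _ => mul_one x, fun y _ => one_mul y, isFactorSystem_factorSystem h.mul hθ hR rfl⟩
  · refine le_bot_iff.1 fun x hx => ?_
    have h1 := (h.ker_mem hx.1).2.2.2.2
    have h2 : x.2 = 1 := Subgroup.mem_bot.1 hx.2.2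
    rw [h2, mul_one] at h1
    exact Prod.ext h1 h2
  · refine le_bot_iff.1 fun x hx => ?_
    have h1 := (h.ker_mem hx.1).2.2.2.2
    have h2 : x.1 = 1 := Subgroup.mem_bot.1 hx.2.1
    rw [h2, one_mul] at h1
    exact Prod.ext h2 h1

variable {U : Subgroup Ω} {D : FusionSystem U}

omit [Finite S] [Fact p.Prime] in
theorem theta_eq {θ : ↥(T₁.prod T₂) →* Ω}
    (hθ1 : ∀ (x : Ω) (hx : ((x, 1) : Ω × Ω) ∈ T₁.prod T₂), θ ⟨(x, 1), hx⟩ = x)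
    (hθ2 : ∀ (y : Ω) (hy : ((1, y) : Ω × Ω) ∈ T₁.prod T₂), θ ⟨(1, y), hy⟩ = y) (s : T₁.prod T₂) :
    θ s = (s : Ω × Ω).1 * (s : Ω × Ω).2 := by
  obtain ⟨⟨a, b⟩, ha, hb⟩ := s
  show θ ⟨(a, b), ha, hb⟩ = a * b
  rw [show (⟨(a, b), ha, hb⟩ : T₁.prod T₂) = ⟨(a, 1), ha, T₂.one_mem⟩ * ⟨(1, b), T₁.one_mem, hb⟩ from
    Subtype.ext (Prod.ext (mul_one a).symm (one_mul b).symm)]
  exact (map_mul θ _ _).trans (congrArg₂ (· * ·) (hθ1 a ⟨ha, T₂.one_mem⟩) (hθ2 b ⟨T₁.one_mem, hb⟩))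

theorem eq_sup (hD : IsCentralProductOf E₁ E₂ D) : U = T₁ ⊔ T₂ := by
  obtain ⟨D₀, -, Z, θ, -, -, -, hθ1, hθ2, hfac⟩ := hD
  rw [← h.range_mul, ← hfac.2.2.1]
  congr 1
  ext s
  exact h.theta_eq hθ1 hθ2 s

theorem isMap_iff (hD : IsCentralProductOf E₁ E₂ D) {P : Subgroup Ω} {f : Ω → Ω} :
    IsMap D P f ↔ DMap F E₁ E₂ P f := by
  have hU := h.eq_sup hD
  obtain ⟨D₀, hD₀, Z, θ, -, -, -, hθ1, hθ2, hfac⟩ := hD
  have hθ := h.theta_eq hθ1 hθ2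
  have hmem : ∀ {a b : Ω}, a ∈ T₁ → b ∈ T₂ → a * b ∈ P → (a, b) ∈ preimageAlong θ P :=
    fun {a b} ha hb hab => mem_preimageAlong.2 ⟨⟨ha, hb⟩, by rw [hθ]; exact hab⟩
  have hpre : preimageAlong θ P ≤ T₁.prod T₂ := preimageAlong_le θ P
  have hpr : ∀ x ∈ preimageAlong θ P, x.1 * x.2 ∈ P := fun x hx => by
    obtain ⟨hxm, hxP⟩ := mem_preimageAlong.1 hx
    rwa [hθ] at hxP
  constructor
  · rintro ⟨φ', hφ', hφe⟩
    obtain ⟨hP, φ, hφ, hle, hv, hP', hi⟩ := (hfac.2.2.2 P φ').1 hφ'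
    obtain ⟨-, f₁, f₂, hf₁, hf₂, he⟩ := H49.isMap_product hD₀ (isMap_of_mem hφ)
    have hPU : P ≤ T₁ ⊔ T₂ := hU ▸ hP
    have hl : pr T₁ T₂ P ≤ H49.prj₁ (preimageAlong θ P) := fun a ha => by
      obtain ⟨b, hb, hab⟩ := h.exists_of_pr hPU ha
      exact H49.mem_prj₁ (hmem ha.2 hb hab)
    have hr : pr T₂ T₁ P ≤ H49.prj₂ (preimageAlong θ P) := fun b hb => by
      obtain ⟨a, ha, hab⟩ := h.symm.exists_of_pr (sup_comm T₁ T₂ ▸ hPU) hb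
      rw [← h.comm a ha b hb.2] at hab
      exact H49.mem_prj₂ (hmem ha hb.2 hab)
    obtain ⟨G, hG, hG₁, hG₂, e₁, e₂⟩ := h.joint (hf₁.mono hl) (hf₂.mono hr)
    refine ⟨hPU, G, hG, hG₁, hG₂, fun x hx => ?_⟩
    obtain ⟨a, ha, b, hb, rfl⟩ := h.exists_mul (hPU hx)
    have hm := hmem ha hb hx
    have hs := hi ⟨_, hm⟩
    rw [show (⟨θ ⟨(a, b), hle hm⟩, hP' ⟨_, hm⟩⟩ : P) = ⟨a * b, hx⟩ from
      Subtype.ext (hθ _), hφe, hθ] at hs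
    have hφv := he _ hm
    rw [homFun_mem φ hm] at hφv
    simp only [hφv] at hs
    have ha' := h.mem_pr_left ha hb hx
    have hb' := h.mem_pr_right ha hb hx
    rw [hs, hG.map_mul (Subgroup.mem_sup_left ha') (Subgroup.mem_sup_right hb'), e₁ a ha', e₂ b hb']
    rfl
  · rintro ⟨hP, G, hG, hG₁, hG₂, hfe⟩
    have hl : H49.prj₁ (preimageAlong θ P) ≤ pr T₁ T₂ P := by
      rintro _ ⟨x, hx, rfl⟩
      exact h.mem_pr_left (hpre hx).1 (hpre hx).2 (hpr x hx)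
    have hr : H49.prj₂ (preimageAlong θ P) ≤ pr T₂ T₁ P := by
      rintro _ ⟨x, hx, rfl⟩
      exact h.mem_pr_right (hpre hx).1 (hpre hx).2 (hpr x hx)
    obtain ⟨φ, hφ, hφe⟩ := H49.isMap_pair hD₀ hpre (hG₁.mono hl) (hG₂.mono hr)
    obtain ⟨φ', -, hφ'e⟩ := hG.mono (h.le_pr_sup hP)
    refine ⟨φ', (hfac.2.2.2 P φ').2 ⟨hU.symm ▸ hP, φ, hφ, hpre, fun x => (D₀.le_of_mem hφ).2 x,
      fun x => (mem_preimageAlong.1 x.2).2, fun x => ?_⟩,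
      fun x => (hφ'e x).trans (hfe x x.2).symm⟩
    rw [hφ'e]
    show G (θ ⟨(x : Ω × Ω), hpre x.2⟩) = θ ⟨φ x, _⟩
    rw [hθ, hθ]
    show _ = (φ x).1 * (φ x).2
    rw [hφe x]
    exact hG.map_mul (Subgroup.mem_sup_left (hl (H49.mem_prj₁ x.2)))
      (Subgroup.mem_sup_right (hr (H49.mem_prj₂ x.2)))

theorem saturated (hD : IsCentralProductOf E₁ E₂ D) : D.IsSaturated p := by
  obtain ⟨D₀, hD₀, Z, θ, hZ, -, -, -, -, hfac⟩ := hD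
  haveI := h.finite_prod
  have hsc : D₀.StronglyClosed Z := stronglyClosed_iff.2 ⟨hfac.1, fun R f hR hf x hx => by
    rw [fix_of_isCentral (isCentral_center D₀) hf hx (hZ (hR hx))]
    exact hR hx⟩
  exact H49.isSaturated_factor h.prod_pGroup (h.product_saturated hD₀) hsc hfac

theorem isSubsystemOf (hD : IsCentralProductOf E₁ E₂ D) : D.IsSubsystemOf F := by
  refine isSubsystemOf_iff_isMap.2 fun P f hf => ?_
  obtain ⟨hP, G, hG, -, -, hfe⟩ := (h.isMap_iff hD).1 hf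
  exact (hG.mono (h.le_pr_sup hP)).congr hfe

end Ctx

end Cfsg.Agent.H89.Prod
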