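import Cfsg.Agent.H89.Extend
import Cfsg.Agent.H89.Series
import Cfsg.Agent.H91.CentFocal.Fix
import Cfsg.Agent.H90.Supersoluble

/-!
A normal subsystem centralizes a strongly closed subgroup that commutes with its support, as soon as it
fixes the intersection.
-/

set_option autoImplicit false
set_option linter.style.haveILetI false
set_option linter.unusedSectionVars false

namespace Cfsg.Agent.H89.Prod

open Cfsg Cfsg.FusionSystem Cfsg.Agent.FusionSys Cfsg.Agent.H91.CentFocal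
open Cfsg.FusionSystem (centralizerIn normalizerIn)
open scoped commutatorElement

variable {Ω : Type*} [Group Ω] {S T₁ T₂ : Subgroup Ω} {F : FusionSystem S} {E₁ : FusionSystem T₁}
  {p : ℕ} [Finite S] [Fact p.Prime]

/-- An abelian strongly closed subgroup is normal. -/
theorem isNormal_of_abelian (hS : IsPGroup p S) (hF : F.IsSaturated p) {Z : Subgroup Ω}
    (hZ : F.StronglyClosed Z) (hab : ∀ a ∈ Z, ∀ b ∈ Z, a * b = b * a) : F.IsNormal Z := by
  refine Cfsg.Agent.H90.isNormal_of_series hS hF hZ (fun i => if i = 0 then ⊥ else Z) 1 (by simp)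
    (by simp) (monotone_nat_of_le_succ fun i => ?_) (fun i hi => ?_) fun i hi => ?_
  · show (if i = 0 then (⊥ : Subgroup Ω) else Z) ≤ if i + 1 = 0 then (⊥ : Subgroup Ω) else Z
    rw [if_neg (Nat.succ_ne_zero i)]
    split_ifs <;> simp
  · obtain rfl : i = 0 := by omega
    show ⁅Z, Z⁆ ≤ ⊥
    exact Subgroup.commutator_le.2 fun a ha b hb => Subgroup.mem_bot.2
      (commutatorElement_eq_one_iff_mul_comm.2 (hab a ha b hb))
  · obtain rfl : i = 0 := by omega
    refine ⟨bot_le, fun φ _ => le_antisymm ?_ bot_le⟩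
    show φ.range ≤ (⊥ : Subgroup Ω)
    rintro _ ⟨⟨x, hx⟩, rfl⟩
    obtain rfl : x = 1 := Subgroup.mem_bot.1 hx
    exact Subgroup.mem_bot.2 (map_one φ)

/-- A normal subsystem over `T₁` extends its maps to fix `T₂` pointwise. -/
theorem cent_of_commute (hS : IsPGroup p S) (hF : F.IsSaturated p) (hE : E₁.IsNormalIn F p)
    (hT₂ : F.StronglyClosed T₂) (hcomm : ∀ a ∈ T₁, ∀ b ∈ T₂, a * b = b * a)
    (hfix : ∀ (P : Subgroup Ω) (f : Ω → Ω), IsMap E₁ P f → ∀ x ∈ P, x ∈ T₂ → f x = x)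
    {P : Subgroup Ω} {f : Ω → Ω} (hf : IsMap E₁ P f) :
    ∃ g, IsMap F (P ⊔ T₂) g ∧ (∀ x ∈ P, g x = f x) ∧ ∀ y ∈ T₂, g y = y := by
  obtain ⟨⟨hEs, -, hinv⟩, -⟩ := id hE
  have hcl := hinv.2.1
  have hTS : T₁ ≤ S := hcl.1
  have h2S : T₂ ≤ S := hT₂.1
  haveI : Finite T₁ := finite_of_le hTS
  have hTp : IsPGroup p T₁ := hS.to_le hTS
  let E' : FusionSystem T₁ := subSys E₁
    (fun P f => ∃ g, IsMap F (P ⊔ T₂) g ∧ (∀ x ∈ P, g x = f x) ∧ ∀ y ∈ T₂, g y = y)
    (fun _ _ _ ⟨g, h1, h2, h3⟩ he => ⟨g, h1, fun x hx => (h2 x hx).trans (he x hx).symm, h3⟩)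
    (fun A a hA ha => ⟨conjMap a, isMap_conj F (sup_le (hA.trans hTS) h2S) (hTS ha),
      fun _ _ => rfl, fun y hy => by rw [conjMap_apply, hcomm a ha y hy, mul_inv_cancel_right]⟩)
    (fun A B u v _ _ hm ⟨u', hu', hu'e, hu'Y⟩ ⟨v', hv', hv'e, hv'Y⟩ => by
      refine ⟨v' ∘ u', hu'.comp hv' fun x hx => ?_, fun x hx => ?_, fun y hy => ?_⟩
      · exact hu'.mapsTo_sup (fun z hz => Subgroup.mem_sup_left ((hu'e z hz).symm ▸ hm z hz))
          (fun z hz => Subgroup.mem_sup_right ((hu'Y z hz).symm ▸ hz)) hx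
      · rw [Function.comp_apply, Function.comp_apply, hu'e x hx, hv'e _ (hm x hx)]
      · rw [Function.comp_apply, hu'Y y hy, hv'Y y hy])
    (fun A B u v hu _ hinv' ⟨u', hu', hu'e, hu'Y⟩ => by
      obtain ⟨v', hv', hvu⟩ := hu'.exists_inv
      have hle : B ⊔ T₂ ≤ imgSub u' (A ⊔ T₂) := by
        refine sup_le (fun z hz => ?_) fun z hz =>
          hu'.mem_imgSub.2 ⟨z, Subgroup.mem_sup_right hz, hu'Y z hz⟩
        obtain ⟨x, hx, rfl⟩ := hu.exists_preimage hz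
        exact hu'.mem_imgSub.2 ⟨x, Subgroup.mem_sup_left hx, hu'e x hx⟩
      refine ⟨v', hv'.mono hle, fun z hz => ?_, fun z hz => ?_⟩
      · obtain ⟨x, hx, rfl⟩ := hu.exists_preimage hz
        rw [hinv' x hx, ← hu'e x hx, hvu x (Subgroup.mem_sup_left hx)]
      · conv_lhs => rw [← hu'Y z hz]
        exact hvu z (Subgroup.mem_sup_right hz))
  suffices hle : E₁ ≤ E' by
    obtain ⟨φ, ⟨-, g, hg, hge, hgY⟩, hφ⟩ := le_iff_isMap.1 hle P f hf
    exact ⟨g, hg, fun x hx => (hge x hx).trans ((homFun_mem φ hx).trans (hφ ⟨x, hx⟩)), hgY⟩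
  refine le_of_autGroup_centricRadical hTp hEs fun R hRn hRc _ => ?_
  have hRT : R ≤ T₁ := hRn.1
  haveI := finite_autGroup E₁ hRT
  rw [← Subgroup.subgroupOf_eq_top]
  obtain ⟨-, Sy, hSy⟩ := isFullyAutomized_of_isFullyNormalized hTp hEs hRn
  refine eq_top_of_sylow_le _ Sy ?_ fun α hα => ?_
  · rw [hSy]
    exact fun γ hγ => autInducedBy_le_autGroup E' hRT hγ
  rw [Subgroup.mem_subgroupOf]
  have hRS : R ≤ S := hRT.trans hTS
  obtain ⟨R', hRR', hR'n⟩ := exists_isFullyNormalized F hRS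
  obtain ⟨g, hg, hgi, -⟩ := exists_map_to_fullyNormalized hS hF hR'n hRR'
  have hα' := autEquiv_mem hinv hRT hgi α.2
  have hR'c := isCentric_target hinv hRc hgi
  obtain ⟨β0, hβ0, hβ0e, hβ0c⟩ := hasExt_all hS hF hE hR'c hR'n hα'
  obtain ⟨k, b, hbp, hβ, hβb, hβe⟩ :=
    exists_pPrime_power (p := p) hβ0 fun x hx => HasExt.mapsTo hβ0 hβ0e hβ0c hx
  have hord : hgi.autEquiv (α : MulAut R) ^ orderOf α = 1 := by
    rw [← map_pow, ← SubgroupClass.coe_pow, pow_orderOf_eq_one, Subgroup.coe_one, map_one]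
  have hβR : ∀ r ∈ R', β0^[k] r = autMap (hgi.autEquiv (α : MulAut R)) r := fun r hr => by
    rw [hβe r (Subgroup.mem_sup_left hr) (orderOf α) hα
      (by rw [autMap_pow _ hβ0e _ hr, hord, FusionSys.autMap_one hr]), hβ0e r hr]
  have hR'T : R' ≤ T₁ := hR'c.1
  have h2C : T₂ ≤ centralizerIn S R' := fun t ht =>
    FusionSys.mem_centralizerIn.2 ⟨h2S ht, fun r hr => hcomm r (hR'T hr) t ht⟩
  have hfixT : ∀ t ∈ T₂, β0^[k] t = t := by
    intro t ht
    have htX : t ∈ R' ⊔ centralizerIn S R' := Subgroup.mem_sup_right (h2C ht)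
    have hzR : t⁻¹ * β0^[k] t ∈ R' := iterate_mod (fun x hx => HasExt.mapsTo hβ0 hβ0e hβ0c hx)
      (fun x hx => HasExt.mod hβ0 hβ0e hβ0c hx) k htX
    set z := t⁻¹ * β0^[k] t with hzdef
    have hz2 : z ∈ T₂ := T₂.mul_mem (T₂.inv_mem ht) (mem_of_stronglyClosed hT₂ hβ htX ht)
    have hβz : β0^[k] z = z := by
      rw [hβR z hzR]
      exact hfix R' _ ((mem_autGroup_iff hR'T).1 hα') z hzR hz2
    have key : ∀ j : ℕ, (β0^[k])^[j] t = t * z ^ j := by
      intro j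
      induction j with
      | zero => simp
      | succ j ih =>
        rw [Function.iterate_succ_apply', ih,
          hβ.map_mul htX (Subgroup.mem_sup_left (R'.pow_mem hzR j)),
          hβ.map_pow (Subgroup.mem_sup_left hzR), hβz, show β0^[k] t = t * z by
            rw [hzdef, mul_inv_cancel_left], pow_succ', mul_assoc]
    have hb1 : z ^ b = 1 := by
      have h1 := key b
      rw [hβb t htX] at h1
      exact mul_left_cancel (a := t) (h1.symm.trans (mul_one t).symm)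
    have hz1 : z ∈ (⊥ : Subgroup Ω) :=
      mem_of_pow_mem hS (h2S hz2) hbp (by rw [hb1]; exact one_mem _)
    rw [hzdef] at hz1
    exact (inv_mul_eq_one.1 (Subgroup.mem_bot.1 hz1)).symm
  have hRN : R ≤ normalizerIn S R := le_normalizerIn_self hRS
  have hTN : T₂ ≤ normalizerIn S R := fun t ht => centralizerIn_le_normalizerIn
    (FusionSys.mem_centralizerIn.2 ⟨h2S ht, fun r hr => hcomm r (hRT hr) t ht⟩)
  obtain ⟨g', hg', hg'e⟩ := hg.exists_inv
  have hgP : IsMap F (R ⊔ T₂) g := hg.mono (sup_le hRN hTN)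
  have hgX : ∀ x ∈ R ⊔ T₂, g x ∈ R' ⊔ centralizerIn S R' := fun x hx => hgP.mapsTo_sup
    (fun r hr => Subgroup.mem_sup_left (hgi.mem hr))
    (fun y hy => Subgroup.mem_sup_right (h2C (mem_of_stronglyClosed hT₂ hg (hTN hy) hy))) hx
  have hcomp : IsMap F (R ⊔ T₂) (β0^[k] ∘ g) := hgP.comp hβ hgX
  have himg : ∀ x ∈ R ⊔ T₂, (β0^[k] ∘ g) x ∈ imgSub g (normalizerIn S R) := fun x hx =>
    hcomp.mapsTo_sup
      (fun r hr => hg.mem_imgSub.2 ⟨_, hRN (autMap_mem (α : MulAut R) hr), by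
        rw [Function.comp_apply, hβR _ (hgi.mem hr), hgi.autMap_autEquiv _ hr]⟩)
      (fun y hy => hg.mem_imgSub.2 ⟨y, hTN hy, by
        rw [Function.comp_apply, hfixT _ (mem_of_stronglyClosed hT₂ hg (hTN hy) hy)]⟩) hx
  obtain ⟨φ, hφ, hφe⟩ := (mem_autGroup_iff hRT).1 α.2
  refine mem_autGroup_of_isMap ⟨φ, ⟨hφ, _, hcomp.comp hg' himg, fun r hr => ?_, fun y hy => ?_⟩, hφe⟩
  · rw [homFun_mem φ hr, hφe ⟨r, hr⟩, Function.comp_apply, Function.comp_apply,
      hβR _ (hgi.mem hr), hgi.autMap_autEquiv _ hr, hg'e _ (hRN (autMap_mem _ hr))]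
  · rw [Function.comp_apply, Function.comp_apply,
      hfixT _ (mem_of_stronglyClosed hT₂ hg (hTN hy) hy), hg'e _ (hTN hy)]

end Cfsg.Agent.H89.Prod
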