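import Cfsg.Agent.H89.Prod.Extend
import Cfsg.Agent.H89.FStar.Normal

/-!
The product of two normal subsystems is normal.
-/

set_option autoImplicit false
set_option linter.style.haveILetI false
set_option linter.unusedSectionVars false

namespace Cfsg.Agent.H89.Prod

open Cfsg Cfsg.FusionSystem Cfsg.Agent.FusionSys Cfsg.Agent.H91.CentFocal
open Cfsg.Agent.H89.ResidualNormal (maps_top map_cent_top)
open Cfsg.FusionSystem (centralizerIn normalizerIn)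

variable {Ω : Type*} [Group Ω] {S T₁ T₂ : Subgroup Ω} {F : FusionSystem S} {p : ℕ}
  {E₁ : FusionSystem T₁} {E₂ : FusionSystem T₂} {U : Subgroup Ω} {D : FusionSystem U}
  [Finite S] [Fact p.Prime]

namespace Ctx

variable (h : Ctx p F E₁ E₂) (hD : IsCentralProductOf E₁ E₂ D)
include h hD

theorem closed_U : F.StronglyClosed U := by
  rw [h.eq_sup hD]; exact h.closed

theorem strongInv : H49.StrongInv F D := by
  intro P R₀ f s hf hPR hR₀ hfR hs
  obtain ⟨hP, G, hG, hG₁, hG₂, hfe⟩ := (h.isMap_iff hD).1 hf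
  have hR : R₀ ≤ T₁ ⊔ T₂ := h.eq_sup hD ▸ hR₀
  obtain ⟨A, hA, hAe⟩ := h.extend_proj hR hs
  have hfR' : ∀ x ∈ P, G x ∈ R₀ := fun x hx => hfe x hx ▸ hfR x hx
  have hG₁W : ∀ a ∈ pr T₁ T₂ P, G a ∈ pr T₁ T₂ R₀ := fun a ha => by
    obtain ⟨b, hb, hab⟩ := h.exists_of_pr hP ha
    have hbp := h.mem_pr_right ha.2 hb hab
    refine h.mem_pr_left (hG₁.mem_S ha) (hG₂.mem_S hbp) ?_
    rw [← hG.map_mul (Subgroup.mem_sup_left ha) (Subgroup.mem_sup_right hbp)]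
    exact hfR' _ hab
  have hG₂W : ∀ b ∈ pr T₂ T₁ P, G b ∈ pr T₂ T₁ R₀ := fun b hb => by
    obtain ⟨a, ha, hba⟩ := h.symm.exists_of_pr (sup_comm T₁ T₂ ▸ hP) hb
    have hap := h.symm.mem_pr_right hb.2 ha hba
    refine h.symm.mem_pr_left (hG₂.mem_S hb) (hG₁.mem_S hap) ?_
    rw [← hG.map_mul (Subgroup.mem_sup_right hb) (Subgroup.mem_sup_left hap)]
    exact hfR' _ hba
  obtain ⟨c₁, hc₁, hc₁e⟩ := FStar.strongInv_of_invariant h.h₁.1.2.2 (pr T₁ T₂ P) (pr T₁ T₂ R₀) G A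
    hG₁ (pr_mono _ _ hPR) pr_le hG₁W (hA.mono le_sup_left)
  obtain ⟨c₂, hc₂, hc₂e⟩ := FStar.strongInv_of_invariant h.h₂.1.2.2 (pr T₂ T₁ P) (pr T₂ T₁ R₀) G A
    hG₂ (pr_mono _ _ hPR) pr_le hG₂W (hA.mono le_sup_right)
  have hAP : IsMap F (pr T₁ T₂ P ⊔ pr T₂ T₁ P) A :=
    hA.mono (sup_le_sup (pr_mono _ _ hPR) (pr_mono _ _ hPR))
  have hAeP : ∀ x ∈ P, A x = s x := fun x hx => hAe x (hPR hx)
  have hi₁ := h.img_pr hP hAP hAeP (hs.mono hPR)
  have hi₂ := h.symm.img_pr (sup_comm T₁ T₂ ▸ hP) (sup_comm (pr T₁ T₂ P) _ ▸ hAP) hAeP (hs.mono hPR)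
  rw [hi₁] at hc₁
  rw [hi₂] at hc₂
  obtain ⟨G', hG', hG'₁, hG'₂, e₁, e₂⟩ := h.joint hc₁ hc₂
  have hsP : imgSub s P ≤ T₁ ⊔ T₂ := fun y hy => by
    obtain ⟨x, hx, rfl⟩ := (hs.mono hPR).mem_imgSub.1 hy
    exact mem_of_stronglyClosed h.closed hs (hPR hx) (hP hx)
  refine ⟨G', (h.isMap_iff hD).2 ⟨hsP, G', hG', hG'₁, hG'₂, fun _ _ => rfl⟩, fun x hx => ?_⟩
  obtain ⟨a, ha, b, hb, rfl⟩ := h.exists_mul (hP hx)
  have hap := h.mem_pr_left ha hb hx
  have hbp := h.mem_pr_right ha hb hx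
  have hAa : A a ∈ pr T₁ T₂ (imgSub s P) := hi₁.le ((hAP.mono le_sup_left).mem_imgSub.2 ⟨a, hap, rfl⟩)
  have hAb : A b ∈ pr T₂ T₁ (imgSub s P) := hi₂.le ((hAP.mono le_sup_right).mem_imgSub.2 ⟨b, hbp, rfl⟩)
  rw [← hAeP _ hx, hAP.map_mul (Subgroup.mem_sup_left hap) (Subgroup.mem_sup_right hbp),
    hG'.map_mul (Subgroup.mem_sup_left hAa) (Subgroup.mem_sup_right hAb), e₁ _ hAa, e₂ _ hAb,
    hc₁e a hap, hc₂e b hbp,
    ← hA.map_mul (Subgroup.mem_sup_left (hG₁W a hap)) (Subgroup.mem_sup_right (hG₂W b hbp)),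
    ← hG.map_mul (Subgroup.mem_sup_left hap) (Subgroup.mem_sup_right hbp), ← hfe _ hx,
    hAe _ (hfR _ hx)]

theorem isWeaklyNormal : D.IsWeaklyNormalIn F p := by
  refine ⟨h.saturated hD, h.hF, H59.Transp.isInvariant_iff_isMap.2 ⟨h.isSubsystemOf hD, h.closed_U hD,
    fun P f hf α hα => ?_, fun P f hP hf => ?_⟩⟩
  · have ham : IsMap F U (autMap α) := (mem_autGroup_iff (h.closed_U hD).1).1 hα
    obtain ⟨c, hc, hce⟩ := h.strongInv hD P U f _ hf hf.le le_rfl (fun x hx => hf.mem_S hx) ham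
    refine hc.congr fun y hy => ?_
    obtain ⟨x, hx, rfl⟩ := (ham.mono hf.le).mem_imgSub.1 hy
    rw [hce x hx]
    show autMap α (f (autMap α⁻¹ (autMap α x))) = _
    rw [S5114.inv_autMap_apply α (hf.le hx)]
  · obtain ⟨a, ha, g, hg, hge⟩ := H49.factors_all h.hS h.hF (h.isSubsystemOf hD) (h.closed_U hD)
      (h.strongInv hD) _ P f le_rfl hP hf
    obtain ⟨α, hα, hαe⟩ := ha.exists_aut
    exact ⟨α, hα, g, hg, fun x hx => (hge x hx).trans (hαe _ (hg.mem_S hx)).symm⟩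

omit hD in
/-- An automorphism of `E₁` extends to `T₁ C_S(T₁)`, fixing `T₂` and trivially modulo `T₁`. -/
theorem exists_ext_fix {a : MulAut T₁} (ha : a ∈ E₁.autGroup T₁) :
    ∃ b, IsMap F (T₁ ⊔ centralizerIn S T₁) b ∧ (∀ t ∈ T₁, b t = autMap a t) ∧ (∀ q ∈ T₂, b q = q) ∧
      ∀ c ∈ centralizerIn S T₁, c⁻¹ * b c ∈ T₁ := by
  have hT := h.closed₁
  haveI : Finite T₁ := finite_of_le h.le₁
  haveI := finite_mulAut_of_le (le_refl T₁)
  haveI := finite_autGroup E₁ (le_refl T₁)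
  have hQC : T₂ ≤ centralizerIn S T₁ := fun q hq => FusionSys.mem_centralizerIn.2
    ⟨h.le₂ hq, fun t ht => h.comm t ht q hq⟩
  let G : Submonoid (MulAut T₁) :=
    { carrier := {a | ∃ b, IsMap F (T₁ ⊔ centralizerIn S T₁) b ∧ (∀ t ∈ T₁, b t = autMap a t) ∧
        (∀ q ∈ T₂, b q = q) ∧ ∀ c ∈ centralizerIn S T₁, c⁻¹ * b c ∈ T₁}
      one_mem' := ⟨id, isMap_id F (sup_le hT.1 centralizerIn_le),
        fun t ht => (FusionSys.autMap_one ht).symm, fun _ _ => rfl,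
        fun c _ => by rw [id_eq, inv_mul_cancel]; exact T₁.one_mem⟩
      mul_mem' := by
        rintro a₁ a₂ ⟨b₁, hb₁, h1, h1Q, h1c⟩ ⟨b₂, hb₂, h2, h2Q, h2c⟩
        refine ⟨b₁ ∘ b₂, hb₂.comp hb₁ fun y hy => maps_top hT hb₂ hy, fun t ht => ?_, fun q hq => ?_,
          fun c hc => ?_⟩
        · rw [Function.comp_apply, h2 t ht, h1 _ (autMap_mem _ ht), autMap_mul _ _ ht]
        · rw [Function.comp_apply, h2Q q hq, h1Q q hq]
        · have := T₁.mul_mem (h2c c hc) (h1c _ (map_cent_top hT hb₂ hc))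
          rwa [mul_assoc, mul_inv_cancel_left] at this }
  suffices hall : (E₁.autGroup T₁).toSubmonoid ≤ G from hall ha
  let G' : Subgroup (E₁.autGroup T₁) := Gen.finSub (G.comap (E₁.autGroup T₁).subtype)
  have hTp := h.hS.to_le h.le₁
  have hTn : E₁.IsFullyNormalized T₁ := ⟨le_rfl, fun R hR => by rw [eq_S_of_isConj hR]⟩
  have hsy := isSylowIn_of_fullyAutomized hTp
    (isFullyAutomized_of_isFullyNormalized hTp h.h₁.1.1 hTn)
  suffices htop : G' = ⊤ from fun x hx => htop.ge (Subgroup.mem_top (⟨x, hx⟩ : E₁.autGroup T₁))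
  refine top_le_iff.1 ((Fusion.sylow_sup_pResidual hsy.toSylow).ge.trans (sup_le (fun y hy => ?_) ?_))
  · rw [hsy.coe_toSylow] at hy
    obtain ⟨t, ht, htn, hye⟩ := mem_autInducedBy.1 (Subgroup.mem_subgroupOf.1 hy)
    refine ⟨conjMap t, isMap_conj F (sup_le hT.1 centralizerIn_le) (hT.1 ht),
      fun z hz => ?_, fun q hq => ?_, fun c hc => ?_⟩
    · show _ = autMap (y : MulAut T₁) z
      rw [show ((y : E₁.autGroup T₁) : MulAut T₁) = conjAut htn from hye]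
      exact (autMap_conjAut htn hz).symm
    · rw [conjMap_apply, h.comm t ht q hq, mul_inv_cancel_right]
    · rw [conjMap_apply, (FusionSys.mem_centralizerIn.1 hc).2 t ht, mul_inv_cancel_right,
        inv_mul_cancel]
      exact T₁.one_mem
  · refine Cores.pResidual_le fun y hy => ?_
    have hyp : (orderOf (y : MulAut T₁)).Coprime p := by rwa [Subgroup.orderOf_coe]
    obtain ⟨β, hβ, hβT, hβc⟩ := h.h₁.2 y y.2
    have hX : T₁ ⊔ centralizerIn S T₁ ≤ S := sup_le hT.1 centralizerIn_le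
    have hβm : IsMap F (T₁ ⊔ centralizerIn S T₁) (autMap β) := (mem_autGroup_iff hX).1 hβ
    obtain ⟨k, n, hn, hbk, hper, hfix⟩ := exists_pPrime_power (p := p) hβm fun x hx => autMap_mem β hx
    set B := (autMap β)^[k] with hBdef
    have hβ1 : ∀ z ∈ T₁, autMap β z = autMap (y : MulAut T₁) z := fun z hz => by
      rw [autMap_apply β (Subgroup.mem_sup_left hz), autMap_apply _ hz]
      exact hβT ⟨z, hz⟩
    have hBT : ∀ t ∈ T₁, B t = autMap (y : MulAut T₁) t := fun t ht => by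
      rw [hfix t (Subgroup.mem_sup_left ht) _ hyp (by
        rw [autMap_pow _ hβ1 _ ht, pow_orderOf_eq_one, FusionSys.autMap_one ht]), hβ1 t ht]
    have hβmod : ∀ c ∈ centralizerIn S T₁, c⁻¹ * autMap β c ∈ T₁ := fun c hc => by
      rw [autMap_apply β (Subgroup.mem_sup_right hc)]
      exact (hβc ⟨c, Subgroup.mem_sup_right hc⟩ hc).1
    have hBmod : ∀ c ∈ centralizerIn S T₁, c⁻¹ * B c ∈ T₁ := fun c hc =>
      iterate_mod (fun c hc => map_cent_top hT hβm hc) hβmod k hc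
    refine ⟨B, hbk, hBT, fun q hq => ?_, hBmod⟩
    have hqX : q ∈ T₁ ⊔ centralizerIn S T₁ := Subgroup.mem_sup_right (hQC hq)
    set z := q⁻¹ * B q with hzdef
    have hzT : z ∈ T₁ := hBmod q (hQC hq)
    have hzQ : z ∈ T₂ := T₂.mul_mem (T₂.inv_mem hq) (mem_of_stronglyClosed h.closed₂ hbk hqX hq)
    have hBz : B z = z := by
      rw [hBT z hzT]
      exact h.fix_mem ((mem_autGroup_iff le_rfl).1 y.2) hzT hzQ
    have key : ∀ j : ℕ, B^[j] q = q * z ^ j := by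
      intro j
      induction j with
      | zero => simp
      | succ j ih =>
        rw [Function.iterate_succ_apply', ih,
          hbk.map_mul hqX (Subgroup.mem_sup_left (T₁.pow_mem hzT j)),
          hbk.map_pow (Subgroup.mem_sup_left hzT), hBz, show B q = q * z by
            rw [hzdef, mul_inv_cancel_left], pow_succ', mul_assoc]
    have h1 : z ^ n = 1 := by
      have := key n
      rw [hper q hqX] at this
      exact mul_left_cancel (a := q) (this.symm.trans (mul_one q).symm)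
    have hz1 : z ∈ (⊥ : Subgroup Ω) := mem_of_pow_mem h.hS (h.le₁ hzT) hn (by rw [h1]; exact one_mem _)
    rw [hzdef] at hz1
    exact (inv_mul_eq_one.1 (Subgroup.mem_bot.1 hz1)).symm

/-- The product is a normal subsystem. -/
theorem isNormal : D.IsNormalIn F p := by
  refine ⟨h.isWeaklyNormal hD, fun α hα => ?_⟩
  have hU := h.eq_sup hD
  have hUc := h.closed_U hD
  haveI : Finite U := finite_of_le hUc.1
  haveI : Finite T₁ := finite_of_le h.le₁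
  haveI : Finite T₂ := finite_of_le h.le₂
  have h1U : T₁ ≤ U := hU ▸ le_sup_left
  have h2U : T₂ ≤ U := hU ▸ le_sup_right
  obtain ⟨-, G, hG, hG₁, hG₂, hαe⟩ := (h.isMap_iff hD).1 ((mem_autGroup_iff le_rfl).1 hα)
  have hp₁ : T₁ ≤ pr T₁ T₂ U := self_le_pr le_rfl |>.trans (pr_mono _ _ h1U)
  have hp₂ : T₂ ≤ pr T₂ T₁ U := self_le_pr le_rfl |>.trans (pr_mono _ _ h2U)
  obtain ⟨a₁, ha₁, ha₁e⟩ := (isIso_of_mapsTo (hG₁.mono hp₁) fun x hx => hG₁.mem_S (hp₁ hx)).exists_aut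
  obtain ⟨a₂, ha₂, ha₂e⟩ := (isIso_of_mapsTo (hG₂.mono hp₂) fun x hx => hG₂.mem_S (hp₂ hx)).exists_aut
  obtain ⟨b₁, hb₁, hb₁T, hb₁Q, hb₁c⟩ := h.exists_ext_fix ha₁
  obtain ⟨b₂, hb₂, hb₂T, hb₂Q, hb₂c⟩ := h.symm.exists_ext_fix ha₂
  have hC₁ : centralizerIn S U ≤ centralizerIn S T₁ := fun c hc => FusionSys.mem_centralizerIn.2
    ⟨centralizerIn_le hc, fun t ht => (FusionSys.mem_centralizerIn.1 hc).2 t (h1U ht)⟩
  have hC₂ : centralizerIn S U ≤ centralizerIn S T₂ := fun c hc => FusionSys.mem_centralizerIn.2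
    ⟨centralizerIn_le hc, fun t ht => (FusionSys.mem_centralizerIn.1 hc).2 t (h2U ht)⟩
  have h2C : T₂ ≤ centralizerIn S T₁ := fun q hq => FusionSys.mem_centralizerIn.2
    ⟨h.le₂ hq, fun t ht => h.comm t ht q hq⟩
  have h1C : T₁ ≤ centralizerIn S T₂ := fun q hq => FusionSys.mem_centralizerIn.2
    ⟨h.le₁ hq, fun t ht => (h.comm q hq t ht).symm⟩
  have hUX₁ : U ⊔ centralizerIn S U ≤ T₁ ⊔ centralizerIn S T₁ :=
    sup_le (hU ▸ sup_le le_sup_left (h2C.trans le_sup_right)) (hC₁.trans le_sup_right)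
  have hUX₂ : U ⊔ centralizerIn S U ≤ T₂ ⊔ centralizerIn S T₂ :=
    sup_le (hU ▸ sup_le (h1C.trans le_sup_right) le_sup_left) (hC₂.trans le_sup_right)
  have hb₂' := hb₂.mono hUX₂
  have hin : ∀ x ∈ U ⊔ centralizerIn S U, b₂ x ∈ U ⊔ centralizerIn S U :=
    fun x hx => maps_top hUc hb₂' hx
  have hB : IsMap F (U ⊔ centralizerIn S U) (b₁ ∘ b₂) := hb₂'.comp (hb₁.mono hUX₁) hin
  haveI : Finite (U ⊔ centralizerIn S U : Subgroup Ω) := finite_of_le hB.le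
  obtain ⟨β, hβ, hβe⟩ := (isIso_of_mapsTo hB fun y hy => maps_top hUc hB hy).exists_aut
  refine ⟨β, hβ, fun x => ?_, fun c hc => ?_⟩
  · rw [← autMap_coe β, Subgroup.coe_inclusion, hβe _ (Subgroup.mem_sup_left x.2), ← autMap_coe α,
      hαe _ x.2, Function.comp_apply]
    obtain ⟨u, hu, v, hv, huv⟩ := h.exists_mul (hU.le x.2)
    have huX : u ∈ U ⊔ centralizerIn S U := Subgroup.mem_sup_left (h1U hu)
    have hvX : v ∈ U ⊔ centralizerIn S U := Subgroup.mem_sup_left (h2U hv)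
    rw [← huv, hb₂'.map_mul huX hvX, hb₂Q u hu, hb₂T v hv,
      (hb₁.mono hUX₁).map_mul huX (Subgroup.mem_sup_left (h2U (autMap_mem a₂ hv))),
      hb₁T u hu, hb₁Q _ (autMap_mem a₂ hv),
      hG.map_mul (Subgroup.mem_sup_left (hp₁ hu)) (Subgroup.mem_sup_right (hp₂ hv)),
      ha₁e u hu, ha₂e v hv]
  · rw [← autMap_coe β, hβe _ c.2, Function.comp_apply]
    have hb₂C : b₂ c ∈ centralizerIn S U := map_cent_top hUc hb₂' hc
    set t₂ := (c : Ω)⁻¹ * b₂ c with ht₂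
    have ht₂2 : t₂ ∈ T₂ := hb₂c _ (hC₂ hc)
    set t₁ := (b₂ c)⁻¹ * b₁ (b₂ c) with ht₁
    have ht₁1 : t₁ ∈ T₁ := hb₁c _ (hC₁ hb₂C)
    have e : (c : Ω)⁻¹ * b₁ (b₂ c) = t₂ * t₁ := by rw [ht₂, ht₁]; group
    have hbC : b₁ (b₂ c) ∈ centralizerIn S U := map_cent_top hUc hB hc
    exact ⟨e ▸ U.mul_mem (h2U ht₂2) (h1U ht₁1), Subgroup.mul_mem _
      (Subgroup.inv_mem _ (FusionSys.mem_centralizerIn.1 hc).2)
      (FusionSys.mem_centralizerIn.1 hbC).2⟩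

end Ctx

end Cfsg.Agent.H89.Prod
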